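import Mathlib

/-!
# Soft subgroups of finite `p`-groups (Héthelyi)

`E` is abelian, self-centralizing, of index `p` in its normalizer and of index at least `p²`.  Everything is
proved by induction on the order through a central subgroup `D` of order `p`: modulo `D` either `E` stays soft,
or `N(E)` becomes abelian and soft with a tower one step shorter.

Owner: helper55.
-/

set_option autoImplicit false
set_option linter.style.haveILetI false

open scoped commutatorElement

namespace Cfsg.Agent.Lib.Fgs55

universe u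

variable {P : Type u} [Group P]

local notation "Nz" H => Subgroup.normalizer ((H : Subgroup _) : Set _)

/-- A soft subgroup. -/
structure Soft (p : ℕ) (E : Subgroup P) : Prop where
  comm : ∀ a ∈ E, ∀ b ∈ E, a * b = b * a
  self : Subgroup.centralizer (E : Set P) ≤ E
  rel : E.relIndex (Subgroup.normalizer (E : Set P)) = p
  big : p ^ 2 ≤ E.index

/-- The conclusion about the overgroups. -/
structure Tower (p : ℕ) (E : Subgroup P) : Prop where
  chain : ∀ K L : Subgroup P, E ≤ K → E ≤ L → K ≤ L ∨ L ≤ K
  step : ∀ K : Subgroup P, E ≤ K → K ≠ ⊤ → K.relIndex (Subgroup.normalizer (K : Set P)) = p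
  cls : ∀ (i : ℕ) (K : Subgroup P), E ≤ K → K ≠ ⊤ → K.index * p ^ i = E.index →
    K.lowerCentralSeries (i + 1) = ⊥

theorem mem_normalizer_of_forall [Finite P] {H : Subgroup P} {x : P} (h : ∀ a ∈ H, x * a * x⁻¹ ∈ H) :
    x ∈ Subgroup.normalizer (H : Set P) := by
  have hm : H.map (MulAut.conj x).toMonoidHom ≤ H := by
    rintro _ ⟨a, ha, rfl⟩
    exact h a ha
  have he : H.map (MulAut.conj x).toMonoidHom = H :=
    Subgroup.eq_of_le_of_card_ge hm (by rw [Subgroup.card_map_of_injective (MulAut.conj x).injective])
  rw [Subgroup.mem_normalizer_iff]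
  intro a
  refine ⟨fun ha => h a ha, fun ha => ?_⟩
  rw [← he] at ha
  obtain ⟨b, hb, e⟩ := ha
  rwa [show a = b from (MulAut.conj x).injective e.symm]

theorem conj_mem {H : Subgroup P} {x a : P} (hx : x ∈ Subgroup.normalizer (H : Set P)) (ha : a ∈ H) :
    x * a * x⁻¹ ∈ H := (Subgroup.mem_normalizer_iff.1 hx a).1 ha

theorem eq_or_eq_of_relIndex_prime [Finite P] {p : ℕ} (hp : p.Prime) {A X B : Subgroup P} (hAX : A ≤ X)
    (hXB : X ≤ B) (h : A.relIndex B = p) : X = A ∨ X = B := by
  have e := Subgroup.relIndex_mul_relIndex A X B hAX hXB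
  rw [h] at e
  rcases hp.eq_one_or_self_of_dvd _ ⟨X.relIndex B, e.symm⟩ with e1 | e1
  · exact Or.inl (le_antisymm (Subgroup.relIndex_eq_one.1 e1) hAX)
  · refine Or.inr (le_antisymm hXB (Subgroup.relIndex_eq_one.1 ?_))
    rw [e1] at e
    exact Nat.eq_of_mul_eq_mul_left hp.pos (by rw [mul_one]; exact e)

theorem exists_normalizing [Finite P] {p : ℕ} [Fact p.Prime] (hP : IsPGroup p P) {A K : Subgroup P}
    (hAK : A ≤ K) (hne : A ≠ K) : ∃ g ∈ K, g ∉ A ∧ g ∈ Subgroup.normalizer (A : Set P) := by
  haveI : Group.IsNilpotent ↥K := (hP.to_subgroup K).isNilpotent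
  have hlt : A.subgroupOf K < ⊤ := lt_top_iff_ne_top.2 fun e =>
    hne (le_antisymm hAK (Subgroup.subgroupOf_eq_top.1 e))
  obtain ⟨g, hg, hgA⟩ := Set.exists_of_ssubset (Group.normalizerCondition_of_isNilpotent _ hlt)
  refine ⟨g, g.2, fun h => hgA h, mem_normalizer_of_forall fun a ha => ?_⟩
  have := conj_mem hg (show (⟨a, hAK ha⟩ : ↥K) ∈ A.subgroupOf K from ha)
  exact this

namespace Soft

variable [Finite P] {p : ℕ} [hp : Fact p.Prime] {E : Subgroup P}

theorem ne_normalizer (h : Soft p E) : E ≠ Subgroup.normalizer (E : Set P) := fun e => by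
  have := h.rel
  rw [← e, Subgroup.relIndex_self] at this
  exact hp.out.one_lt.ne this

theorem ne_top (h : Soft p E) : E ≠ ⊤ := fun e => by
  have := h.big
  rw [e, Subgroup.index_top] at this
  nlinarith [hp.out.two_le]

theorem sup_zpowers (h : Soft p E) {g : P} (hg : g ∈ Subgroup.normalizer (E : Set P)) (hgE : g ∉ E) :
    Subgroup.closure ((E : Set P) ∪ {g}) = Subgroup.normalizer (E : Set P) := by
  have hle : E ≤ Subgroup.closure ((E : Set P) ∪ {g}) := fun e he => Subgroup.subset_closure (Or.inl he)
  rcases eq_or_eq_of_relIndex_prime hp.out hle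
    ((Subgroup.closure_le _).2 (Set.union_subset Subgroup.le_normalizer (Set.singleton_subset_iff.2 hg))) h.rel
    with e | e
  · exact absurd (e ▸ Subgroup.subset_closure (Or.inr rfl)) hgE
  · exact e

theorem above (h : Soft p E) (hP : IsPGroup p P) {K : Subgroup P} (hK : E ≤ K) (hne : K ≠ E) :
    Subgroup.normalizer (E : Set P) ≤ K := by
  obtain ⟨g, hgK, hgE, hg⟩ := exists_normalizing hP hK hne.symm
  rw [← h.sup_zpowers hg hgE]
  exact (Subgroup.closure_le _).2 (Set.union_subset hK (Set.singleton_subset_iff.2 hgK))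

theorem normalizer_ne_top (h : Soft p E) : Subgroup.normalizer (E : Set P) ≠ ⊤ := fun e => by
  have h1 := h.rel
  rw [e, Subgroup.relIndex_top_right] at h1
  have := h.big
  rw [h1] at this
  nlinarith [hp.out.two_le]

/-- `N(E)` has at most `p + 1`, hence exactly `p`, conjugates of `E` in its normalizer. -/
theorem rel_normalizer (h : Soft p E) (hP : IsPGroup p P) :
    (Subgroup.normalizer (E : Set P)).relIndex
      (Subgroup.normalizer (Subgroup.normalizer (E : Set P) : Set P)) = p := by
  classical
  set N := Subgroup.normalizer (E : Set P) with hN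
  set R := Subgroup.normalizer (N : Set P) with hR
  have hEN : E ≤ N := Subgroup.le_normalizer
  obtain ⟨g, -, hgN, hgR⟩ := exists_normalizing hP (le_top : N ≤ ⊤) h.normalizer_ne_top
  let cE : P → Subgroup P := fun x => E.map (MulAut.conj x).toMonoidHom
  have hcN : ∀ x ∈ R, cE x ≤ N := by
    rintro x hx _ ⟨e, he, rfl⟩
    exact conj_mem hx (hEN he)
  have hcard : ∀ x, Nat.card (cE x) = Nat.card E := fun x =>
    Subgroup.card_map_of_injective (MulAut.conj x).injective
  have hcomm : ∀ x, ∀ a ∈ cE x, ∀ b ∈ cE x, a * b = b * a := by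
    rintro x _ ⟨a, ha, rfl⟩ _ ⟨b, hb, rfl⟩
    rw [← map_mul, ← map_mul, h.comm a ha b hb]
  have hstab : ∀ x y, cE x = cE y → y⁻¹ * x ∈ N := by
    intro x y e
    refine mem_normalizer_of_forall fun a ha => ?_
    have h1 : x * a * x⁻¹ ∈ cE y := e ▸ ⟨a, ha, rfl⟩
    obtain ⟨b, hb, hb'⟩ := h1
    rw [MulEquiv.coe_toMonoidHom, MulAut.conj_apply] at hb'
    have : y⁻¹ * x * a * (y⁻¹ * x)⁻¹ = b := by
      rw [show y⁻¹ * x * a * (y⁻¹ * x)⁻¹ = y⁻¹ * (x * a * x⁻¹) * y by group, ← hb']
      group
    rwa [this]
  set Z := N ⊓ Subgroup.centralizer (N : Set P) with hZ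
  have hZE : Z ≤ E := fun z hz => h.self fun e he => hz.2 e (hEN he)
  have hrelN : ∀ x ∈ R, (cE x).relIndex N = p := by
    intro x hx
    have e1 := Subgroup.card_mul_index (E.subgroupOf N)
    have e2 := Subgroup.card_mul_index ((cE x).subgroupOf N)
    rw [Nat.card_congr (Subgroup.subgroupOfEquivOfLe hEN).toEquiv] at e1
    rw [Nat.card_congr (Subgroup.subgroupOfEquivOfLe (hcN x hx)).toEquiv, hcard, ← e1] at e2
    exact (Nat.eq_of_mul_eq_mul_left Nat.card_pos e2).trans h.rel
  -- two distinct conjugates meet in the centre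
  have hinter : ∀ x ∈ R, ∀ y ∈ R, cE x ≠ cE y → cE x ⊓ cE y ≤ Z := by
    intro x hx y hy hne
    have hsup : cE x ⊔ cE y = N := by
      rcases eq_or_eq_of_relIndex_prime hp.out (le_sup_left : cE x ≤ cE x ⊔ cE y)
        (sup_le (hcN x hx) (hcN y hy)) (hrelN x hx) with e | e
      · exact absurd (Subgroup.eq_of_le_of_card_ge (e ▸ le_sup_right : cE y ≤ cE x)
          (by rw [hcard, hcard])).symm hne
      · exact e
    intro z hz
    refine ⟨hcN x hx hz.1, ?_⟩
    have : N ≤ Subgroup.centralizer {z} := hsup ▸ sup_le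
      (fun a ha => Subgroup.mem_centralizer_singleton_iff.2 (hcomm x a ha z hz.1))
      (fun a ha => Subgroup.mem_centralizer_singleton_iff.2 (hcomm y a ha z hz.2))
    exact fun a ha => Subgroup.mem_centralizer_singleton_iff.1 (this ha)
  have hgne : cE g ≠ cE 1 := fun e => hgN (by simpa using hstab g 1 e)
  have hc1 : cE 1 = E := by
    ext a; simp [cE]
  -- `|E : Z| = p`
  have hEZ : Nat.card E = p * Nat.card Z := by
    have hne : Z ≠ E := by
      intro e
      obtain ⟨w, hw, hwE⟩ := SetLike.exists_of_lt (lt_of_le_of_ne hEN h.ne_normalizer)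
      exact hwE (h.self fun a ha => ((e.symm.le ha).2 w hw).symm)
    have h1 : E ⊓ cE g ≤ Z := hc1 ▸ hinter 1 (one_mem _) g hgR hgne.symm
    have h2 : (cE g).relIndex E ≤ p :=
      (Nat.le_of_dvd hp.out.pos ?_)
    · have h3 : Z.relIndex E ≤ p := by
        refine le_trans (Nat.le_of_dvd (Nat.pos_of_ne_zero Subgroup.index_ne_zero_of_finite)
          (Subgroup.relIndex_dvd_of_le_left E h1)) ?_
        change (E ⊓ cE g).relIndex E ≤ p
        rw [inf_comm, Subgroup.inf_relIndex_right]
        exact h2
      obtain ⟨k, hk⟩ := (hP.to_subgroup E).index (Z.subgroupOf E)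
      have h4 : Z.relIndex E = p := by
        rw [Subgroup.relIndex, hk]
        match k, hk with
        | 0, hk => exact absurd (le_antisymm hZE (Subgroup.relIndex_eq_one.1 (by simpa [Subgroup.relIndex] using hk))) hne
        | 1, _ => exact pow_one p
        | k + 2, hk =>
          rw [Subgroup.relIndex, hk] at h3
          exact absurd h3 (not_le.2 (by
            calc p < p ^ 2 := by nlinarith [hp.out.two_le]
              _ ≤ p ^ (k + 2) := Nat.pow_le_pow_right hp.out.pos (by omega)))
      have e1 := Subgroup.card_mul_index (Z.subgroupOf E)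
      rw [Nat.card_congr (Subgroup.subgroupOfEquivOfLe hZE).toEquiv] at e1
      rw [← e1, ← Subgroup.relIndex, h4, mul_comm]
    · haveI : ((cE g).subgroupOf N).Normal := by
        refine ⟨fun a ha w => ?_⟩
        show (w : P) * a * (w : P)⁻¹ ∈ cE g
        obtain ⟨e, he, hea⟩ := (ha : (a : P) ∈ cE g)
        replace hea : g * e * g⁻¹ = (a : P) := hea
        have hw : g⁻¹ * (w : P) * g ∈ N := by
          have := conj_mem (inv_mem hgR) w.2
          rwa [inv_inv] at this
        refine ⟨g⁻¹ * (w : P) * g * e * (g⁻¹ * (w : P) * g)⁻¹, conj_mem hw he, ?_⟩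
        rw [MulEquiv.coe_toMonoidHom, MulAut.conj_apply, ← hea]
        group
      have hd := Subgroup.relIndex_dvd_index_of_normal ((cE g).subgroupOf N) (E.subgroupOf N)
      rw [Subgroup.relIndex_subgroupOf hEN, ← Subgroup.relIndex, hrelN g hgR] at hd
      exact hd
  have hNc : Nat.card N = p * (p * Nat.card Z) := by
    have e1 := Subgroup.card_mul_index (E.subgroupOf N)
    rw [Nat.card_congr (Subgroup.subgroupOfEquivOfLe hEN).toEquiv, ← Subgroup.relIndex, h.rel, hEZ] at e1
    rw [← e1, mul_comm]
  -- counting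
  set Q := ↥R ⧸ N.subgroupOf R with hQ
  haveI : Fintype Q := Fintype.ofFinite Q
  let c : Q → Subgroup P := fun q => cE (q.out : ↥R)
  have hcinj : Function.Injective c := by
    intro q q' e
    have h1 := hstab _ _ e
    rw [← q.out_eq', ← q'.out_eq']
    exact (QuotientGroup.eq.2 (by simpa [Subgroup.mem_subgroupOf] using h1)).symm
  let ψ : (Σ q : Q, ↥((c q : Set P) \ (Z : Set P))) → ↥((N : Set P) \ (Z : Set P)) :=
    fun s => ⟨s.2.1, hcN _ s.1.out.2 s.2.2.1, s.2.2.2⟩
  have hψ : Function.Injective ψ := by
    rintro ⟨q, z, hz⟩ ⟨q', z', hz'⟩ e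
    obtain rfl : z = z' := congrArg Subtype.val e
    obtain rfl : q = q' := by
      by_contra hne
      exact hz.2 (hinter _ q.out.2 _ q'.out.2 (fun e' => hne (hcinj e')) ⟨hz.1, hz'.1⟩)
    rfl
  have hcount := Nat.card_le_card_of_injective ψ hψ
  have hdiff : ∀ H : Subgroup P, Z ≤ H → Nat.card ↥((H : Set P) \ (Z : Set P)) = Nat.card H - Nat.card Z := by
    intro H hH
    rw [Nat.card_coe_set_eq, Set.ncard_sdiff hH, ← Nat.card_coe_set_eq, ← Nat.card_coe_set_eq]
    rfl
  have hZc : ∀ q : Q, Z ≤ c q := by
    intro q z hz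
    set x : P := ((q.out : ↥R) : P) with hx
    refine ⟨x⁻¹ * z * x, hZE ⟨by simpa using conj_mem (inv_mem q.out.2) hz.1, fun a ha => ?_⟩, by
      rw [hx, MulEquiv.coe_toMonoidHom, MulAut.conj_apply]; group⟩
    have h1 : x * a * x⁻¹ * z = z * (x * a * x⁻¹) := hz.2 _ (conj_mem q.out.2 ha)
    calc a * (x⁻¹ * z * x) = x⁻¹ * (x * a * x⁻¹ * z) * x := by group
      _ = x⁻¹ * (z * (x * a * x⁻¹)) * x := by rw [h1]
      _ = x⁻¹ * z * x * a := by group
  rw [Nat.card_sigma, Finset.sum_congr rfl fun q _ => hdiff _ (hZc q), hdiff N (hZE.trans hEN),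
    Finset.sum_congr rfl fun q _ => by rw [show Nat.card (c q) = p * Nat.card Z from (hcard _).trans hEZ],
    Finset.sum_const, Finset.card_univ, ← Nat.card_eq_fintype_card, smul_eq_mul, hNc] at hcount
  have hm : N.relIndex R = Nat.card Q := rfl
  obtain ⟨k, hk⟩ := (hP.to_subgroup R).index (N.subgroupOf R)
  have hQk : Nat.card Q = p ^ k := hk
  rw [hm, hQk]
  rw [hQk] at hcount
  have hZ0 : 0 < Nat.card Z := Nat.card_pos
  match k, hk, hcount with
  | 0, hk, _ => exact absurd (Subgroup.subgroupOf_eq_top.1 (Subgroup.index_eq_one.1 (by simpa using hk)) hgR) hgN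
  | 1, _, _ => exact pow_one p
  | k + 2, hk, hcount =>
    exfalso
    have hle : p ^ 2 ≤ p ^ (k + 2) := Nat.pow_le_pow_right hp.out.pos (by omega)
    obtain ⟨r, hr⟩ : ∃ r, p = r + 2 := ⟨p - 2, by have := hp.out.two_le; omega⟩
    have hkey : (r + 2) ^ 2 * ((r + 1) * Nat.card Z) ≤ ((r + 2) * (r + 2) - 1) * Nat.card Z := by
      have e2 : (r + 2) * Nat.card Z - Nat.card Z = (r + 1) * Nat.card Z := by
        rw [Nat.succ_mul]; exact Nat.add_sub_cancel _ _
      rw [Nat.sub_mul, one_mul]
      calc (r + 2) ^ 2 * ((r + 1) * Nat.card Z) ≤ p ^ (k + 2) * (p * Nat.card Z - Nat.card Z) := by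
            rw [hr, e2]; exact Nat.mul_le_mul_right _ (hr ▸ hle)
        _ ≤ p * (p * Nat.card Z) - Nat.card Z := hcount
        _ = (r + 2) * (r + 2) * Nat.card Z - Nat.card Z := by rw [hr, mul_assoc]
    have h5 : (r + 2) ^ 2 * (r + 1) ≤ (r + 2) * (r + 2) - 1 := by
      rw [← mul_assoc] at hkey
      exact Nat.le_of_mul_le_mul_right hkey hZ0
    have h6 : (r + 2) ^ 2 * 1 ≤ (r + 2) ^ 2 * (r + 1) := Nat.mul_le_mul_left _ (by omega)
    have h7 : 0 < (r + 2) * (r + 2) := by positivity
    rw [pow_two] at h5 h6
    omega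

end Soft

section Main

variable [Finite P] {p : ℕ} [hp : Fact p.Prime]

theorem exists_central_order_p (hP : IsPGroup p P) [Nontrivial P] :
    ∃ d ∈ Subgroup.center P, orderOf d = p := by
  haveI := hP.center_nontrivial
  obtain ⟨k, hk⟩ := (hP.to_subgroup (Subgroup.center P)).exists_card_eq
  have h1 : 1 < Nat.card (Subgroup.center P) := Finite.one_lt_card
  have hdvd : p ∣ Nat.card (Subgroup.center P) := by
    rw [hk] at h1 ⊢
    exact dvd_pow_self p (by rintro rfl; simp at h1)
  obtain ⟨d, hd⟩ := exists_prime_orderOf_dvd_card' p hdvd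
  exact ⟨d, d.2, by rw [Subgroup.orderOf_coe]; exact hd⟩

end Main

theorem tower {p : ℕ} [hp : Fact p.Prime] : ∀ (n : ℕ) (P : Type u) [Group P] [Finite P], Nat.card P ≤ n →
    IsPGroup p P → ∀ E : Subgroup P, Soft p E → Tower p E := by
  intro n
  induction n with
  | zero => intro P _ _ h; exact absurd h (not_le.2 Nat.card_pos)
  | succ n ih =>
    intro P _ _ hn hP E h
    haveI : Nontrivial P := by
      by_contra hc
      rw [not_nontrivial_iff_subsingleton] at hc
      exact h.ne_top (Subsingleton.elim _ _)
    obtain ⟨d, hdc, hd⟩ := exists_central_order_p hP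
    set D := Subgroup.zpowers d with hD
    have hDc : D ≤ Subgroup.center P := Subgroup.zpowers_le.2 hdc
    haveI : D.Normal := ⟨fun a ha g => by rwa [Subgroup.mem_center_iff.1 (hDc ha) g, mul_inv_cancel_right]⟩
    have hDE : D ≤ E := fun a ha => h.self fun e _ => Subgroup.mem_center_iff.1 (hDc ha) e
    set f := QuotientGroup.mk' D with hf
    have hfs : Function.Surjective f := QuotientGroup.mk'_surjective D
    have hker : f.ker = D := QuotientGroup.ker_mk' D
    have hcard : Nat.card (P ⧸ D) ≤ n := by
      have e := Subgroup.card_eq_card_quotient_mul_card_subgroup D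
      rw [hD, Nat.card_zpowers, hd] at e
      have h2 := hp.out.two_le
      have h3 : 0 < Nat.card (P ⧸ D) := Nat.card_pos
      nlinarith
    have hPq : IsPGroup p (P ⧸ D) := hP.to_quotient D
    have cm : ∀ K : Subgroup P, D ≤ K → (K.map f).comap f = K := fun K hK => by
      rw [Subgroup.comap_map_eq, hker, sup_eq_left.2 hK]
    have himgidx : ∀ K : Subgroup P, D ≤ K → (K.map f).index = K.index := fun K hK =>
      Subgroup.index_map_eq K hfs (hker.le.trans hK)
    have hmapne : ∀ K : Subgroup P, D ≤ K → K ≠ ⊤ → K.map f ≠ ⊤ := fun K hK hne e => hne (by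
      rw [← cm K hK, e, Subgroup.comap_top])
    have hrel : ∀ K : Subgroup P, D ≤ K →
        K.relIndex (Subgroup.normalizer (K : Set P)) =
          (K.map f).relIndex (Subgroup.normalizer (K.map f : Set (P ⧸ D))) := by
      intro K hK
      have e1 : (Subgroup.normalizer (K.map f : Set (P ⧸ D))).comap f = Subgroup.normalizer (K : Set P) := by
        rw [Subgroup.comap_normalizer_eq_of_surjective _ hfs, cm K hK]
      conv_lhs => rw [← cm K hK]
      rw [Subgroup.relIndex_comap, cm K hK, ← e1, Subgroup.map_comap_eq_self_of_surjective hfs]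
    have hfeq : ∀ a b : P, f a = f b → a⁻¹ * b ∈ D := fun a b e => QuotientGroup.eq.1 e
    have hfnorm : ∀ x : P, (∀ e ∈ E, f e * f x = f x * f e) → x ∈ Subgroup.normalizer (E : Set P) := by
      intro x hx
      refine mem_normalizer_of_forall fun e he => ?_
      have h1 : f e = f (x * e * x⁻¹) := by rw [map_mul, map_mul, ← hx e he, map_inv, mul_inv_cancel_right]
      have := mul_mem he (hDE (hfeq _ _ h1))
      rwa [mul_inv_cancel_left] at this
    have hlcs : ∀ (i : ℕ) (K : Subgroup P), (K.map f).lowerCentralSeries i = ⊥ → K.lowerCentralSeries i ≤ D := by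
      intro i K hK
      rw [← Subgroup.map_lowerCentralSeries, Subgroup.map_eq_bot_iff, hker] at hK
      exact hK
    set N := Subgroup.normalizer (E : Set P) with hN
    have hEN : E ≤ N := Subgroup.le_normalizer
    have hEidx : E.index = p * N.index := by rw [← Subgroup.relIndex_mul_index hEN, h.rel]
    by_cases hcase : ∀ a ∈ E, ∀ b ∈ N, f a * f b = f b * f a
    · -- `N / D` is abelian
      obtain ⟨g, hgN, hgE⟩ := SetLike.exists_of_lt (lt_of_le_of_ne hEN h.ne_normalizer)
      have hab : ∀ a ∈ N, ∀ b ∈ N, f a * f b = f b * f a := by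
        have h1 : N ≤ (Subgroup.centralizer {f g}).comap f := by
          rw [← show _ = N from h.sup_zpowers hgN hgE, Subgroup.closure_le]
          rintro a (ha | rfl)
          · exact Subgroup.mem_centralizer_singleton_iff.2 (hcase a ha g hgN)
          · exact Subgroup.mem_centralizer_singleton_iff.2 rfl
        intro a ha b hb
        have h2 : N ≤ (Subgroup.centralizer {f a}).comap f := by
          rw [← show _ = N from h.sup_zpowers hgN hgE, Subgroup.closure_le]
          rintro c (hc | rfl)
          · exact Subgroup.mem_centralizer_singleton_iff.2 (hcase c hc a ha)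
          · exact Subgroup.mem_centralizer_singleton_iff.2
              (Subgroup.mem_centralizer_singleton_iff.1 (h1 ha)).symm
        exact (Subgroup.mem_centralizer_singleton_iff.1 (h2 hb)).symm
      have hcommN : ∀ K : Subgroup P, K ≤ N → K.lowerCentralSeries 1 ≤ D := by
        intro K hK
        refine (Subgroup.commutator_le.2 fun a ha b hb => ?_)
        rw [← hker, MonoidHom.mem_ker, commutatorElement_def, map_mul, map_mul, map_mul, map_inv, map_inv,
          hab a (hK ha) b (hK hb), mul_inv_cancel_right, mul_inv_cancel]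
      have hnext : ∀ (j : ℕ) (K : Subgroup P), K.lowerCentralSeries j ≤ D → K.lowerCentralSeries (j + 1) = ⊥ := by
        intro j K hj
        rw [Subgroup.lowerCentralSeries_succ, Subgroup.commutator_eq_bot_iff_le_centralizer]
        exact fun a ha b _ => Subgroup.mem_center_iff.1 (hDc (hj ha)) b
      have hE0 : ∀ i : ℕ, E.index * p ^ i = E.index → E.lowerCentralSeries (i + 1) = ⊥ := by
        intro i hi
        have hpi : p ^ i = 1 := Nat.eq_of_mul_eq_mul_left (Nat.pos_of_ne_zero Subgroup.index_ne_zero_of_finite)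
          (by rw [hi, mul_one])
        obtain rfl : i = 0 := (Nat.pow_eq_one.1 hpi).resolve_left hp.out.ne_one
        rw [Subgroup.lowerCentralSeries_succ, Subgroup.lowerCentralSeries_zero,
          Subgroup.commutator_eq_bot_iff_le_centralizer]
        exact fun a ha b hb => h.comm b hb a ha
      by_cases hbase : E.index = p ^ 2
      · have hNidx : N.index = p := Nat.eq_of_mul_eq_mul_left hp.out.pos (by rw [← hEidx, hbase, pow_two])
        have hover : ∀ K : Subgroup P, E ≤ K → K = E ∨ K = N ∨ K = ⊤ := by
          intro K hK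
          by_cases hKE : K = E
          · exact Or.inl hKE
          · exact Or.inr (eq_or_eq_of_relIndex_prime hp.out (h.above hP hK hKE) le_top
              (by rw [Subgroup.relIndex_top_right, hNidx]))
        refine ⟨fun K L hK hL => ?_, fun K hK hne => ?_, fun i K hK hne hi => ?_⟩
        · rcases hover K hK with rfl | rfl | rfl
          · exact Or.inl hL
          · rcases hover L hL with rfl | rfl | rfl
            · exact Or.inr hEN
            · exact Or.inl le_rfl
            · exact Or.inl le_top
          · exact Or.inr le_top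
        · rcases hover K hK with rfl | rfl | rfl
          · exact h.rel
          · exact h.rel_normalizer hP
          · exact absurd rfl hne
        · rcases hover K hK with rfl | rfl | rfl
          · exact hE0 i hi
          · have hi1 : i = 1 := by
              rw [hNidx, hbase, pow_two] at hi
              have := Nat.eq_of_mul_eq_mul_left hp.out.pos hi
              exact Nat.pow_right_injective hp.out.two_le (show p ^ i = p ^ 1 by rw [pow_one]; exact this)
            subst hi1
            exact hnext 1 N (hcommN N le_rfl)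
          · exact absurd rfl hne
      · have hDN : D ≤ N := hDE.trans hEN
        have hsoft : Soft p (N.map f) := by
          refine ⟨?_, ?_, ?_, ?_⟩
          · rintro _ ⟨a, ha, rfl⟩ _ ⟨b, hb, rfl⟩
            exact hab a ha b hb
          · intro y hy
            obtain ⟨x, rfl⟩ := hfs y
            exact ⟨x, hfnorm x fun e he => hy (f e) ⟨e, hEN he, rfl⟩, rfl⟩
          · rw [← hrel N hDN]; exact h.rel_normalizer hP
          · rw [himgidx N hDN]
            obtain ⟨k, hk⟩ := hP.index E
            rw [hk] at hbase hEidx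
            have hb := h.big
            rw [hk] at hb
            have hk2 : 2 ≤ k := (Nat.pow_le_pow_iff_right hp.out.one_lt).1 hb
            have hk3 : k ≠ 2 := fun e => hbase (by rw [e])
            have : p * p ^ 2 ≤ p * N.index := by
              rw [← hEidx, ← pow_succ']
              exact Nat.pow_le_pow_right hp.out.pos (by omega)
            exact Nat.le_of_mul_le_mul_left this hp.out.pos
        have T := ih (P ⧸ D) hcard hPq _ hsoft
        refine ⟨fun K L hK hL => ?_, fun K hK hne => ?_, fun i K hK hne hi => ?_⟩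
        · by_cases hKE : K = E
          · exact Or.inl (hKE ▸ hL)
          by_cases hLE : L = E
          · exact Or.inr (hLE ▸ hK)
          rcases T.chain _ _ (Subgroup.map_mono (h.above hP hK hKE)) (Subgroup.map_mono (h.above hP hL hLE))
            with e | e
          · left; rw [← cm K (hDE.trans hK), ← cm L (hDE.trans hL)]; exact Subgroup.comap_mono e
          · right; rw [← cm K (hDE.trans hK), ← cm L (hDE.trans hL)]; exact Subgroup.comap_mono e
        · by_cases hKE : K = E
          · subst hKE; exact h.rel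
          · rw [hrel K (hDE.trans hK)]
            exact T.step _ (Subgroup.map_mono (h.above hP hK hKE)) (hmapne K (hDE.trans hK) hne)
        · by_cases hKE : K = E
          · subst hKE; exact hE0 i hi
          have hNK := h.above hP hK hKE
          obtain ⟨j, rfl⟩ : ∃ j, i = j + 1 := by
            refine Nat.exists_eq_succ_of_ne_zero fun e => ?_
            subst e
            rw [pow_zero, mul_one] at hi
            have h1 : K.index ≤ N.index := Nat.le_of_dvd (Nat.pos_of_ne_zero Subgroup.index_ne_zero_of_finite)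
              (Subgroup.index_dvd_of_le hNK)
            have h2 : 0 < N.index := Nat.pos_of_ne_zero Subgroup.index_ne_zero_of_finite
            nlinarith [hp.out.two_le]
          refine hnext _ K (hlcs _ K (T.cls j _ (Subgroup.map_mono hNK) (hmapne K (hDE.trans hK) hne) ?_))
          rw [himgidx K (hDE.trans hK), himgidx N hDN]
          refine Nat.eq_of_mul_eq_mul_left hp.out.pos ?_
          rw [← hEidx, ← hi]
          ring
    · -- `E / D` is soft
      have hsoft : Soft p (E.map f) := by
        refine ⟨?_, ?_, ?_, ?_⟩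
        · rintro _ ⟨a, ha, rfl⟩ _ ⟨b, hb, rfl⟩
          rw [← map_mul, ← map_mul, h.comm a ha b hb]
        · intro y hy
          obtain ⟨x, rfl⟩ := hfs y
          have hx : ∀ e ∈ E, f e * f x = f x * f e := fun e he => hy (f e) ⟨e, he, rfl⟩
          refine ⟨x, ?_, rfl⟩
          by_contra hxE
          refine hcase fun a ha b hb => ?_
          have h1 : N ≤ (Subgroup.centralizer {f a}).comap f := by
            rw [← show _ = N from h.sup_zpowers (hfnorm x hx) hxE, Subgroup.closure_le]
            rintro c (hc | rfl)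
            · exact Subgroup.mem_centralizer_singleton_iff.2 (by rw [← map_mul, ← map_mul, h.comm c hc a ha])
            · exact Subgroup.mem_centralizer_singleton_iff.2 (hx a ha).symm
          exact (Subgroup.mem_centralizer_singleton_iff.1 (h1 hb)).symm
        · rw [← hrel E hDE]; exact h.rel
        · rw [himgidx E hDE]; exact h.big
      have T := ih (P ⧸ D) hcard hPq _ hsoft
      have hchain : ∀ K L : Subgroup P, E ≤ K → E ≤ L → K ≤ L ∨ L ≤ K := by
        intro K L hK hL
        rcases T.chain _ _ (Subgroup.map_mono hK) (Subgroup.map_mono hL) with e | e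
        · left; rw [← cm K (hDE.trans hK), ← cm L (hDE.trans hL)]; exact Subgroup.comap_mono e
        · right; rw [← cm K (hDE.trans hK), ← cm L (hDE.trans hL)]; exact Subgroup.comap_mono e
      have hstep : ∀ K : Subgroup P, E ≤ K → K ≠ ⊤ → K.relIndex (Subgroup.normalizer (K : Set P)) = p := by
        intro K hK hne
        rw [hrel K (hDE.trans hK)]
        exact T.step _ (Subgroup.map_mono hK) (hmapne K (hDE.trans hK) hne)
      refine ⟨hchain, hstep, fun i K hK hne hi => ?_⟩
      have hc := hlcs (i + 1) K (T.cls i _ (Subgroup.map_mono hK) (hmapne K (hDE.trans hK) hne)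
        (by rw [himgidx K (hDE.trans hK), himgidx E hDE]; exact hi))
      set A := K.lowerCentralSeries i with hA
      have hAE : A ≤ E := by
        intro a ha
        have h1 : f a ∈ E.map f := hsoft.self (by
          rintro _ ⟨e, he, rfl⟩
          have h2 : ⁅a, e⁆ ∈ D := hc (by
            rw [Subgroup.lowerCentralSeries_succ]; exact Subgroup.commutator_mem_commutator ha (hK he))
          rw [← hker, MonoidHom.mem_ker, map_commutatorElement] at h2
          exact (commutatorElement_eq_one_iff_mul_comm.1 h2).symm)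
        rw [← cm E hDE]
        exact h1
      -- the closure of `E` under `N(K)` is `K`
      set NK := Subgroup.normalizer (K : Set P) with hNK
      set R := Subgroup.closure {y | ∃ x ∈ NK, ∃ e ∈ E, y = x * e * x⁻¹} with hR
      have hER : E ≤ R := fun e he => Subgroup.subset_closure ⟨1, one_mem _, e, he, by group⟩
      have hRK : R ≤ K := (Subgroup.closure_le _).2 (by
        rintro _ ⟨x, hx, e, he, rfl⟩; exact conj_mem hx (hK he))
      have hNR : NK ≤ Subgroup.normalizer (R : Set P) := by
        intro w hw
        refine mem_normalizer_of_forall fun a ha => ?_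
        have : R ≤ R.comap (MulAut.conj w).toMonoidHom := (Subgroup.closure_le _).2 (by
          rintro _ ⟨x, hx, e, he, rfl⟩
          exact Subgroup.subset_closure ⟨w * x, mul_mem hw hx, e, he, by
            rw [MulEquiv.coe_toMonoidHom, MulAut.conj_apply]; group⟩)
        exact this ha
      have hRKeq : R = K := by
        by_contra hne'
        obtain ⟨z, -, hzK, hzN⟩ := exists_normalizing hP (le_top : K ≤ ⊤) hne
        rcases eq_or_eq_of_relIndex_prime hp.out hRK (Subgroup.le_normalizer.trans hNR)
          (hstep R hER fun e => hne (top_le_iff.1 (e ▸ hRK))) with e | e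
        · exact hne' e.symm
        · exact hzK (e.symm.le (hNR hzN))
      rw [Subgroup.lowerCentralSeries_succ, ← hA, Subgroup.commutator_eq_bot_iff_le_centralizer]
      intro a ha b hb
      have hsub : R ≤ Subgroup.centralizer {a} := (Subgroup.closure_le _).2 (by
        rintro _ ⟨x, hx, e, he, rfl⟩
        have hKc : K.map (MulAut.conj x⁻¹).toMonoidHom = K := by
          refine Subgroup.eq_of_le_of_card_ge ?_ (by rw [Subgroup.card_map_of_injective (MulAut.conj x⁻¹).injective])
          rintro _ ⟨c, hc', rfl⟩
          exact conj_mem (inv_mem hx) hc'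
        have h1 : x⁻¹ * a * x ∈ A := by
          rw [hA, ← hKc, ← Subgroup.map_lowerCentralSeries]
          exact ⟨a, ha, by simp⟩
        have h2 := h.comm e he _ (hAE h1)
        refine Subgroup.mem_centralizer_singleton_iff.2 ?_
        calc x * e * x⁻¹ * a = x * (e * (x⁻¹ * a * x)) * x⁻¹ := by group
          _ = x * (x⁻¹ * a * x * e) * x⁻¹ := by rw [h2]
          _ = a * (x * e * x⁻¹) := by group)
      exact Subgroup.mem_centralizer_singleton_iff.1 (hsub (hRKeq.symm ▸ hb))

/-- The lower bound on the class of an overgroup. -/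
theorem not_upper_eq_top [Finite P] {p : ℕ} [hp : Fact p.Prime] {E : Subgroup P} (h : Soft p E)
    (T : Tower p E) {i : ℕ} {K : Subgroup P} (hK : E ≤ K) (hKt : K ≠ ⊤) (hi : Nat.card K = Nat.card E * p ^ (i + 1)) :
    Subgroup.upperCentralSeries ↥K (i + 1) ≠ ⊤ := by
  have key : ∀ j : ℕ, ∃ S : Subgroup P, E ≤ S ∧ S ≤ K ∧ Nat.card S ≤ Nat.card E * p ^ j ∧
      (Subgroup.upperCentralSeries ↥K (j + 1)).map K.subtype ≤ S := by
    intro j
    induction j with
    | zero =>
      refine ⟨E, le_rfl, hK, by simp, ?_⟩
      rintro _ ⟨z, hz, rfl⟩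
      refine h.self fun e he => ?_
      rw [show (0 + 1 : ℕ) = 1 from rfl, Subgroup.upperCentralSeries_one] at hz
      exact congrArg Subtype.val (Subgroup.mem_center_iff.1 hz ⟨e, hK he⟩)
    | succ j ihj =>
      obtain ⟨S, hES, hSK, hc, hS⟩ := ihj
      refine ⟨Subgroup.normalizer (S : Set P) ⊓ K, le_inf (hES.trans Subgroup.le_normalizer) hK, inf_le_right, ?_, ?_⟩
      · have h1 : Nat.card (Subgroup.normalizer (S : Set P)) = Nat.card S * p := by
          have e := Subgroup.card_mul_index (S.subgroupOf (Subgroup.normalizer (S : Set P)))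
          rw [Nat.card_congr (Subgroup.subgroupOfEquivOfLe Subgroup.le_normalizer).toEquiv,
            ← Subgroup.relIndex, T.step S hES fun e => hKt (top_le_iff.1 (e ▸ hSK))] at e
          exact e.symm
        calc Nat.card ↥(Subgroup.normalizer (S : Set P) ⊓ K) ≤ Nat.card (Subgroup.normalizer (S : Set P)) :=
              Subgroup.card_le_of_le inf_le_left
          _ = Nat.card S * p := h1
          _ ≤ Nat.card E * p ^ j * p := Nat.mul_le_mul_right _ hc
          _ = _ := by rw [mul_assoc, pow_succ]
      · rintro _ ⟨z, hz, rfl⟩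
        refine ⟨mem_normalizer_of_forall fun a ha => ?_, z.2⟩
        have h1 := hS ⟨_, Subgroup.mem_upperCentralSeries_succ_iff.1 hz ⟨a, hSK ha⟩, rfl⟩
        rw [map_commutatorElement, commutatorElement_def] at h1
        have := mul_mem h1 ha
        simpa using this
  intro e
  obtain ⟨S, -, -, hc, hS⟩ := key i
  rw [e, ← MonoidHom.range_eq_map, Subgroup.range_subtype] at hS
  have h1 := (Subgroup.card_le_of_le hS).trans hc
  rw [hi] at h1
  have h2 : p ^ i < p ^ (i + 1) := Nat.pow_lt_pow_right hp.out.one_lt (by omega)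
  have h3 : 0 < Nat.card E := Nat.card_pos
  nlinarith

end Cfsg.Agent.Lib.Fgs55
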