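import Mathlib
import Cfsg.Prelude.Def_Transfer
import Cfsg.Agent.Lib.LargeExtra.TwoConjugate

/-!
# Transfer of an involution into `H/K`, `|H : K| = 2`, read off the fixed cosets

Owner: helper55.
-/

set_option autoImplicit false
set_option linter.style.haveILetI false

namespace Cfsg.Agent.Lib.Fgs55

variable {G : Type*} [Group G]

/-- The coset `q = xH` is fixed by `e` with `x⁻¹ e x ∉ K`. -/
def OutCoset (H K : Subgroup G) (e : G) (q : G ⧸ H) : Prop :=
  ∀ x : G, (x : G ⧸ H) = q → x⁻¹ * e * x ∈ H ∧ x⁻¹ * e * x ∉ K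

theorem mul_mem_iff_index_two {H K : Subgroup G} (hi : K.relIndex H = 2) {a b : G} (ha : a ∈ H) (hb : b ∈ H) :
    a * b ∈ K ↔ (a ∈ K ↔ b ∈ K) :=
  Subgroup.mul_mem_iff_of_index_two (H := K.subgroupOf H) hi (a := ⟨a, ha⟩) (b := ⟨b, hb⟩)

theorem conj_mem_iff {H K : Subgroup G} (hi : K.relIndex H = 2) {a h : G} (ha : a ∈ H) (hh : h ∈ H) :
    h⁻¹ * a * h ∈ K ↔ a ∈ K := by
  rw [mul_mem_iff_index_two hi (mul_mem (inv_mem hh) ha) hh, mul_mem_iff_index_two hi (inv_mem hh) ha, inv_mem_iff]
  tauto

theorem commutator_mem_of_index_two {H K : Subgroup G} (hi : K.relIndex H = 2) {a b : G} (ha : a ∈ H) (hb : b ∈ H) :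
    a * b * a⁻¹ * b⁻¹ ∈ K := by
  rw [mul_mem_iff_index_two hi (mul_mem (mul_mem ha hb) (inv_mem ha)) (inv_mem hb),
    mul_mem_iff_index_two hi (mul_mem ha hb) (inv_mem ha), mul_mem_iff_index_two hi ha hb,
    inv_mem_iff, inv_mem_iff]
  tauto

theorem outCoset_iff {H K : Subgroup G} (hi : K.relIndex H = 2) {e : G} (x : G) :
    OutCoset H K e (x : G ⧸ H) ↔ x⁻¹ * e * x ∈ H ∧ x⁻¹ * e * x ∉ K := by
  refine ⟨fun h => h x rfl, fun h y hy => ?_⟩
  have hh : x⁻¹ * y ∈ H := QuotientGroup.eq.1 hy.symm
  have e1 : y⁻¹ * e * y = (x⁻¹ * y)⁻¹ * (x⁻¹ * e * x) * (x⁻¹ * y) := by group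
  rw [e1]
  exact ⟨mul_mem (mul_mem (inv_mem hh) h.1) hh, fun hk => h.2 ((conj_mem_iff hi h.1 hh).1 hk)⟩

theorem even_card_outCoset [Finite G] (hres : Cfsg.pResidual 2 G = ⊤) {H K : Subgroup G}
    (hi : K.relIndex H = 2) {e : G} (he : e * e = 1) :
    Even (Nat.card {q : G ⧸ H // OutCoset H K e q}) := by
  classical
  let χ : ↥H →* ℤˣ :=
    { toFun := fun h => if (h : G) ∈ K then 1 else -1
      map_one' := if_pos (one_mem K)
      map_mul' := fun a b => by
        have := mul_mem_iff_index_two hi a.2 b.2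
        simp only [Subgroup.coe_mul, this]
        by_cases ha : (a : G) ∈ K <;> by_cases hb : (b : G) ∈ K <;> simp [ha, hb] }
  set V := MonoidHom.transfer χ with hV
  have hker : ∀ g : G, V g = 1 := by
    have h1 : Cfsg.pResidual 2 G ≤ V.ker := by
      refine (Subgroup.closure_le _).2 fun g hg => ?_
      have h2 : orderOf (V g) ∣ orderOf g := orderOf_map_dvd V g
      have h3 : orderOf (V g) ∣ 2 := orderOf_dvd_of_pow_eq_one (Int.units_sq _)
      exact orderOf_eq_one_iff.1 (Nat.eq_one_of_dvd_coprimes hg h2 h3)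
    exact fun g => h1 (hres ▸ Subgroup.mem_top g)
  letI := Fintype.ofFinite (G ⧸ H)
  letI := Fintype.ofFinite (Quotient (MulAction.orbitRel (Subgroup.zpowers e) (G ⧸ H)))
  have htr := MonoidHom.transfer_eq_prod_quotient_orbitRel_zpowers_quot χ e
  rw [← hV, hker] at htr
  set O := Quotient (MulAction.orbitRel (Subgroup.zpowers e) (G ⧸ H)) with hO
  -- the value on an orbit
  have key : ∀ (o : O),
      (χ ⟨o.out.out⁻¹ * e ^ Function.minimalPeriod (e • ·) o.out * o.out.out,
        QuotientGroup.out_conj_pow_minimalPeriod_mem H e o.out⟩) =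
      if OutCoset H K e o.out then -1 else 1 := by
    intro o
    set q := o.out with hq
    have h2 : Function.IsPeriodicPt (e • ·) 2 q := by
      show e • e • q = q
      rw [smul_smul, he, one_smul]
    rcases (Nat.dvd_prime Nat.prime_two).1 h2.minimalPeriod_dvd with h1 | h1
    · have hmem := QuotientGroup.out_conj_pow_minimalPeriod_mem H e q
      rw [h1, pow_one] at hmem
      have e3 := outCoset_iff (K := K) hi (e := e) q.out
      rw [QuotientGroup.out_eq'] at e3
      show (if _ ∈ K then (1 : ℤˣ) else -1) = _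
      simp only [h1, pow_one]
      by_cases hk : q.out⁻¹ * e * q.out ∈ K
      · rw [if_pos hk, if_neg fun h => (e3.1 h).2 hk]
      · rw [if_neg hk, if_pos (e3.2 ⟨hmem, hk⟩)]
    · have hne : ¬ OutCoset H K e q := by
        intro h
        have hfix : e • q = q := by
          have hm := (h q.out q.out_eq').1
          rw [← QuotientGroup.out_eq' q, MulAction.Quotient.smul_coe, QuotientGroup.eq, smul_eq_mul, mul_inv_rev,
            inv_eq_of_mul_eq_one_right he]
          exact hm
        have : Function.minimalPeriod (e • ·) q = 1 := Function.minimalPeriod_eq_one_iff_isFixedPt.2 hfix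
        omega
      rw [if_neg hne]
      show (if _ ∈ K then (1 : ℤˣ) else -1) = _
      simp only [h1, pow_two, he, mul_one, inv_mul_cancel, one_mem, if_true]
  rw [Finset.prod_congr rfl fun o _ => key o, Finset.prod_ite, Finset.prod_const, Finset.prod_const_one, mul_one] at htr
  have hcard : Nat.card {q : G ⧸ H // OutCoset H K e q} =
      (Finset.univ.filter fun o : O => OutCoset H K e o.out).card := by
    rw [← Fintype.card_subtype, ← Nat.card_eq_fintype_card]
    refine (Nat.card_congr (Equiv.ofBijective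
      (fun o : {o : O // OutCoset H K e o.out} => (⟨o.1.out, o.2⟩ : {q : G ⧸ H // OutCoset H K e q})) ⟨?_, ?_⟩)).symm
    · rintro ⟨o, ho⟩ ⟨o', ho'⟩ h
      exact Subtype.ext (Quotient.out_injective (congrArg Subtype.val h))
    · rintro ⟨q, hq⟩
      have hfix : e • q = q := by
        have hm := (hq q.out q.out_eq').1
        rw [← QuotientGroup.out_eq' q, MulAction.Quotient.smul_coe, QuotientGroup.eq, smul_eq_mul, mul_inv_rev,
          inv_eq_of_mul_eq_one_right he]
        exact hm
      set o : O := Quotient.mk'' q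
      have : o.out = q := by
        obtain ⟨⟨w, hw⟩, hwq⟩ : o.out ∈ MulAction.orbit (Subgroup.zpowers e) q :=
          MulAction.orbitRel_apply.1 (Quotient.mk_out (s := MulAction.orbitRel _ _) q)
        rw [← hwq]
        obtain ⟨i, rfl⟩ := hw
        have hst : e ∈ MulAction.stabilizer G q := hfix
        exact MulAction.mem_stabilizer_iff.1 (zpow_mem hst i)
      exact ⟨⟨o, this.symm ▸ hq⟩, Subtype.ext this⟩
  rw [hcard]
  exact (neg_one_pow_eq_one_iff_even (R := ℤˣ) (by decide)) |>.1 (by convert htr.symm using 5)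

open Cfsg.Agent.Lib.LargeExtraspecial.Basic in
/-- An extraspecial group of width at least two has, outside any subgroup of index two, an involution. -/
theorem exists_involution_outside [Finite G] {E : Subgroup G} {z : G} (hES : ES E z) (hcard : 32 ≤ Nat.card E)
    {K : Subgroup G} (hout : ∀ a ∈ E, ∀ b ∈ E, a * b ∈ K ↔ (a ∈ K ↔ b ∈ K)) (hne : ¬ E ≤ K) :
    ∃ e ∈ E, e ∉ K ∧ e * e = 1 := by
  by_contra hno
  push Not at hno
  have hsq : ∀ x ∈ E, x ∉ K → x * x = z := fun x hx hxK => (hES.sq_cases hx).resolve_left (hno x hx hxK)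
  let A : G → Subgroup G := fun x => E ⊓ Subgroup.centralizer {x}
  have hA : ∀ x ∈ E, x ∉ K → (∀ a ∈ A x, ∀ b ∈ A x, a * b = b * a) ∧ Nat.card E ≤ 2 * Nat.card (A x) := by
    intro x hx hxK
    have hcx : ∀ a ∈ A x, a * x = x * a := fun a ha => Subgroup.mem_centralizer_singleton_iff.1 ha.2
    have hel : ∀ a ∈ A x, a ∈ K → a * a = 1 := by
      intro a ha haK
      have hxa : x * a ∉ K := by
        rw [hout x hx a ha.1]
        tauto
      have h1 := hsq _ (mul_mem hx ha.1) hxa
      rw [mul_assoc, ← mul_assoc a x a, hcx a ha, mul_assoc, ← mul_assoc, hsq x hx hxK] at h1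
      exact mul_left_cancel (h1.trans (mul_one z).symm)
    -- every element of `A x` is, up to the factor `x`, an element of `A x ∩ K`
    have hdec : ∀ a ∈ A x, a ∈ K ∨ ∃ a' ∈ A x, a' ∈ K ∧ a = x * a' := by
      intro a ha
      by_cases haK : a ∈ K
      · exact Or.inl haK
      refine Or.inr ⟨x⁻¹ * a, mul_mem (inv_mem ⟨hx, Subgroup.mem_centralizer_singleton_iff.2 rfl⟩) ha, ?_, by group⟩
      rw [hout _ (inv_mem hx) _ ha.1, inv_mem_iff]
      tauto
    have hKK : ∀ a ∈ A x, ∀ b ∈ A x, a ∈ K → b ∈ K → a * b = b * a := by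
      intro a ha b hb haK hbK
      have h1 := hel _ (mul_mem ha hb) ((hout a ha.1 b hb.1).2 (iff_of_true haK hbK))
      have h2 := inv_eq_of_mul_eq_one_right h1
      rw [mul_inv_rev, inv_eq_of_mul_eq_one_right (hel a ha haK), inv_eq_of_mul_eq_one_right (hel b hb hbK)] at h2
      exact h2.symm
    refine ⟨fun a ha b hb => ?_, ?_⟩
    · rcases hdec a ha with haK | ⟨a', ha', ha'K, rfl⟩ <;> rcases hdec b hb with hbK | ⟨b', hb', hb'K, rfl⟩
      · exact hKK a ha b hb haK hbK
      · calc a * (x * b') = x * (a * b') := by rw [← mul_assoc, hcx a ha, mul_assoc]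
          _ = x * b' * a := by rw [hKK a ha b' hb' haK hb'K, mul_assoc]
      · calc x * a' * b = x * (b * a') := by rw [mul_assoc, hKK a' ha' b hb ha'K hbK]
          _ = b * (x * a') := by rw [← mul_assoc, ← hcx b hb, mul_assoc]
      · calc x * a' * (x * b') = x * (x * (a' * b')) := by
              rw [mul_assoc, ← mul_assoc a', hcx a' ha', mul_assoc]
          _ = x * (x * (b' * a')) := by rw [hKK a' ha' b' hb' ha'K hb'K]
          _ = x * b' * (x * a') := by rw [mul_assoc x b', ← mul_assoc b', hcx b' hb', mul_assoc]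
    · obtain ⟨w, hwE, hw⟩ := hES.exists_conj_ne hx
        (fun e => hxK (e ▸ one_mem K)) (fun e => by
          have := hsq x hx hxK
          rw [e, hES.sq] at this
          exact hES.ne this.symm)
      classical
      have hmem : ∀ a ∈ E, chi x a = 0 → a ∈ A x := fun a ha h0 =>
        ⟨ha, Subgroup.mem_centralizer_singleton_iff.2 (chi_eq_zero.1 h0).eq.symm⟩
      have hw1 : chi x w = 1 := by
        rw [hES.chi_comm]
        unfold chi
        rw [if_neg (fun e => hES.ne (mul_eq_left.1 (hw.symm.trans e)))]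
      let φ : ↥E → Fin 2 × ↥(A x) := fun a =>
        if h : chi x (a : G) = 0 then (0, ⟨a, hmem a a.2 h⟩)
        else (1, ⟨a * w, hmem _ (mul_mem a.2 hwE) (by
          rw [hES.chi_mul_right hx a.2 hwE, hw1]
          have : ∀ t : ZMod 2, t ≠ 0 → t + 1 = 0 := by decide
          exact this _ h)⟩)
      have hφ : Function.Injective φ := by
        intro a b e
        simp only [φ] at e
        split_ifs at e <;> simp only [Prod.mk.injEq, Subtype.mk.injEq] at e
        · exact Subtype.ext e.2
        · exact absurd e.1 (by decide)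
        · exact absurd e.1 (by decide)
        · exact Subtype.ext (mul_right_cancel e.2)
      have := Nat.card_le_card_of_injective φ hφ
      rwa [Nat.card_prod, Nat.card_fin] at this
  obtain ⟨x, hx, hxK⟩ := SetLike.not_le_iff_exists.1 hne
  obtain ⟨habA, hcA⟩ := hA x hx hxK
  have hxA : x ∈ A x := ⟨hx, Subgroup.mem_centralizer_singleton_iff.2 rfl⟩
  -- a second one
  obtain ⟨x', hx', hx'K, hx'A⟩ : ∃ x' ∈ E, x' ∉ K ∧ x' ∉ A x := by
    obtain ⟨w, hwE, hw⟩ : ∃ w ∈ E, w ∉ A x := by
      by_contra hall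
      push Not at hall
      have : x = 1 ∨ x = z := hES.center x hx fun q hq => (Subgroup.mem_centralizer_singleton_iff.1 (hall q hq).2)
      rcases this with e | e
      · exact hxK (e ▸ one_mem K)
      · have := hsq x hx hxK
        rw [e, hES.sq] at this
        exact hES.ne this.symm
    by_cases hwK : w ∈ K
    · refine ⟨x * w, mul_mem hx hwE, by rw [hout x hx w hwE]; tauto, fun h => hw ?_⟩
      have := mul_mem (inv_mem hxA) h
      rwa [inv_mul_cancel_left] at this
    · exact ⟨w, hwE, hwK, hw⟩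
  obtain ⟨habB, hcB⟩ := hA x' hx' hx'K
  have hx'B : x' ∈ A x' := ⟨hx', Subgroup.mem_centralizer_singleton_iff.2 rfl⟩
  -- `A x ∩ A x'` is central
  have hsup : A x ⊔ A x' = E := by
    refine le_antisymm (sup_le inf_le_left inf_le_left) ?_
    have hlt : Nat.card (A x) < Nat.card ↥(A x ⊔ A x') := by
      refine Nat.lt_of_le_of_ne (Subgroup.card_le_of_le le_sup_left) fun e => hx'A ?_
      exact (Subgroup.eq_of_le_of_card_ge le_sup_left e.ge).symm.le ((le_sup_right : A x' ≤ _) hx'B)
    refine (Subgroup.eq_of_le_of_card_ge (sup_le inf_le_left inf_le_left) ?_).ge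
    show Nat.card E ≤ Nat.card ↥(A x ⊔ A x')
    obtain ⟨k, hk'⟩ := Subgroup.card_dvd_of_le (sup_le inf_le_left inf_le_left : A x ⊔ A x' ≤ E)
    have hk : Nat.card E = Nat.card ↥(A x ⊔ A x') * k := hk'
    rcases k with _ | _ | k
    · have : 0 < Nat.card E := Nat.card_pos
      omega
    · omega
    · have : Nat.card ↥(A x ⊔ A x') * 2 ≤ Nat.card E := hk ▸ Nat.mul_le_mul_left _ (by omega)
      omega
  have hcen : ∀ a ∈ A x ⊓ A x', a = 1 ∨ a = z := by
    intro a ha
    refine hES.center a ha.1.1 fun q hq => ?_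
    have : A x ⊔ A x' ≤ Subgroup.centralizer {a} := sup_le
      (fun b hb => Subgroup.mem_centralizer_singleton_iff.2 (habA b hb a ha.1))
      (fun b hb => Subgroup.mem_centralizer_singleton_iff.2 (habB b hb a ha.2))
    exact Subgroup.mem_centralizer_singleton_iff.1 (this (hsup.symm ▸ hq))
  have hle2 : Nat.card ↥(A x ⊓ A x') ≤ 2 := by
    classical
    refine (Nat.card_le_card_of_injective (fun a : ↥(A x ⊓ A x') => if (a : G) = 1 then (0 : Fin 2) else 1) ?_).trans
      (Nat.card_fin 2).le
    intro a b e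
    rcases hcen a a.2 with ha | ha <;> rcases hcen b b.2 with hb | hb <;>
      simp [ha, hb, hES.ne] at e <;> exact Subtype.ext (ha.trans hb.symm)
  have h1 := Subgroup.relIndex_inf_le (H := A x) (K := A x') (L := E)
  have hrel : ∀ B : Subgroup G, B ≤ E → Nat.card B * B.relIndex E = Nat.card E := by
    intro B hB
    have := Subgroup.card_mul_index (B.subgroupOf E)
    rwa [Nat.card_congr (Subgroup.subgroupOfEquivOfLe hB).toEquiv] at this
  have e1 := hrel (A x) inf_le_left
  have e2 := hrel (A x') inf_le_left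
  have e3 := hrel (A x ⊓ A x') (inf_le_left.trans inf_le_left)
  have hE0 : 0 < Nat.card E := Nat.card_pos
  have r1 : (A x).relIndex E ≤ 2 := by
    have h0 : 0 < Nat.card (A x) := Nat.card_pos
    nlinarith
  have r2 : (A x').relIndex E ≤ 2 := by
    have h0 : 0 < Nat.card (A x') := Nat.card_pos
    nlinarith
  have h4 : (A x ⊓ A x').relIndex E ≤ 4 := h1.trans ((Nat.mul_le_mul r1 r2).trans (by norm_num))
  have := Nat.mul_le_mul hle2 h4
  omega

end Cfsg.Agent.Lib.Fgs55
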